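import Mathlib
import Cfsg.Agent.Loc.GCKm
import Cfsg.Agent.Loc.GCOp2
import Cfsg.Agent.Loc.ZC
import Cfsg.Agent.CIT.Defs
import Cfsg.Prelude.Def_Classical
import Cfsg.Prelude.Def_Sz

/-! Definitions for Baumann's theorem on 2-central involutions with 2-closed centralizer
(text: `stubs/Cfsg/Agent/Bau/PLAN.md`). -/

set_option autoImplicit false
set_option linter.unusedSectionVars false

namespace Cfsg.Agent.Bau

open Cfsg Cfsg.Agent.GT Cfsg.Agent.Loc Cfsg.Agent.Loc.Mss Cfsg.Agent.Loc.PU Cfsg.Agent.Loc.Blk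
  Cfsg.Agent.Loc.GC Subgroup
open scoped commutatorElement MatrixGroups

universe u

scoped notation:max "𝐂₁[" a "]" => Subgroup.centralizer ({a} : Set _)
scoped notation:max "𝐖[" L "]" => ΩZ[2, 𝐎[2, L]]
scoped notation:max "𝐔[" L "]" => ⁅ΩZ[2, 𝐎[2, L]], 𝐑[2, L]⁆

section
variable {G : Type*} [Group G]

/-- A good involution: its centralizer has a normal Sylow `2`-subgroup of `G`. -/
def Gd (z : G) : Prop := ∃ R, ZC.Hyp R z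

/-- `X` meets the class of `t`. -/
def MD (t : G) (X : Subgroup G) : Prop := ∃ d ∈ X, IsConj t d

/-- The almost simple setting `G = L⟨t⟩`. -/
structure St (L : Subgroup G) (t : G) : Prop where
  norm : L.Normal
  simple : IsSimpleGroup L
  nab : ¬ IsMulCommutative L
  gen : L ⊔ zpowers t = ⊤
  cent : 𝐂[L] = ⊥
  gd : Gd t

/-- The setting after the rank one groups are removed. -/
structure Cx (L : Subgroup G) (t : G) : Prop extends St L t where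
  chp : ∀ X : Subgroup G, IsPGroup 2 X → MD t X → ChP 2 𝐍[X]
  noF : ∀ (M : Subgroup G) (w : G), IsConj t w → w ∈ M → (∀ g, g * w * g⁻¹ ∈ M → g ∈ M) → M = ⊤

/-- `L` is a rank one pushing up situation over `B` with `Ω₁Z(O₂(L))/Ω₁Z(L)` natural for
`L/O₂(L) = SL₂(F)`. -/
structure Mb (L B : Subgroup G) {F : Type} [Field F] (ρ : G → SL(2, F)) (φ : G → Fin 2 → F) :
    Prop where
  pud : ∃ M, PUD 2 (Nat.card F) L B M
  nat : NatU L B 𝐖[L] ΩZ[2, L] ΩZ[2, B] ρ φ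
  ker : ∀ g ∈ L, ρ g = 1 ↔ g ∈ 𝐎[2, L]

def MbE (L B : Subgroup G) (q : ℕ) : Prop :=
  ∃ (F : Type) (_ : Field F) (ρ : G → SL(2, F)) (φ : G → Fin 2 → F), Mb L B ρ φ ∧ Nat.card F = q

/-- A member over a Baumann subgroup `B` that is weakly closed in the relevant local subgroups. -/
structure Rm (t : G) (L B : Subgroup G) (q : ℕ) : Prop where
  gd : Gd t
  mb : MbE L B q
  bB : 𝐁[2, B] = B
  nJ : ¬ thJ 2 B ≤ 𝐎[2, L]
  zD : MD t ΩZ[2, B]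
  wc : ∀ X ≤ B, MD t X → L ≤ 𝐍[X] → ∀ R : Subgroup G, IsPGroup 2 R → B ≤ R → R ≤ 𝐍[X] →
    𝐁[2, R] = B
  wj : ∀ X ≤ thJ 2 B, MD t X → L ≤ 𝐍[X] → ∀ R : Subgroup G, IsPGroup 2 R → thJ 2 B ≤ R →
    R ≤ 𝐍[X] ⊓ 𝐍[thJ 2 B] → thJ 2 R = thJ 2 B

/-- An opposite pair of members. -/
structure Cf (t : G) (B L₁ L₂ : Subgroup G) (q : ℕ) : Prop where
  r1 : Rm t L₁ B q
  r2 : Rm t L₂ B q
  opp : ¬ 𝐖[L₂] ≤ 𝐎[2, L₁]

/-- An opposite pair without common centre: `B = V₁V₂`. -/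
structure Bd (t : G) (B L₁ L₂ V₁ V₂ : Subgroup G) (q : ℕ) : Prop where
  gd : Gd t
  b1 : BkE L₁ B V₁ q
  b2 : BkE L₂ B V₂ q
  o1 : 𝐎[2, L₁] = V₁
  o2 : 𝐎[2, L₂] = V₂
  ne : V₁ ≠ V₂
  z12 : 𝐙[L₁] ⊓ 𝐙[L₂] = ⊥
  n1 : 𝐍[V₁] ≤ 𝐍[L₁]
  n2 : 𝐍[V₂] ≤ 𝐍[L₂]
  zD : MD t 𝐙[B]
  wc : ∀ R : Subgroup G, IsPGroup 2 R → B ≤ R → R ≤ 𝐍[V₁] ∨ R ≤ 𝐍[V₂] → R ⊓ 𝐂[𝐙[B]] ≤ B

/-- `U⟨x⟩ ≅ A₄` is normalized by `U'`. -/
structure Tri (U U' : Subgroup G) (x z : G) : Prop where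
  ea : EA U
  card : Nat.card U = 4
  mem : z ∈ U
  ord : orderOf x = 3
  nx : x ∈ 𝐍[U]
  fx : x ∉ 𝐂[U]
  nU : U' ≤ 𝐍[U ⊔ zpowers x]

/-- Two `A₄` over the two four groups of a dihedral group of order eight generate `X`. -/
structure DP (X U₁ U₂ : Subgroup G) (x₁ x₂ z : G) : Prop where
  s1 : Tri U₁ U₂ x₁ z
  s2 : Tri U₂ U₁ x₂ z
  z1 : z ≠ 1
  nc : ¬ U₁ ≤ 𝐂[U₂]
  eq : (U₁ ⊔ zpowers x₁) ⊔ (U₂ ⊔ zpowers x₂) = X

/-- The configuration left by an opposite pair over the field of two elements with a common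
centre. -/
structure Gm (t : G) (X U₁ U₂ : Subgroup G) (x₁ x₂ z : G) : Prop
    extends DP X U₁ U₂ x₁ x₂ z where
  ev : ∃ a ∈ 𝐂[X], orderOf a = 2
  ex : ∃ w, IsConj t w ∧ w * z ∈ 𝐂[X]
  ga1 : ∀ d, IsConj t d → d * z ∈ 𝐂[X] → ∀ P : Subgroup G, IsPGroup 2 P →
    P ≤ 𝐂[U₁] ⊓ 𝐂₁[d] → ⁅P, zpowers x₁⁆ ≤ U₁
  ga2 : ∀ d, IsConj t d → d * z ∈ 𝐂[X] → ∀ P : Subgroup G, IsPGroup 2 P →
    P ≤ 𝐂[U₂] ⊓ 𝐂₁[d] → ⁅P, zpowers x₂⁆ ≤ U₂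

end

/-- The list of the theorem. -/
def InList (H : Type*) [Group H] : Prop :=
  (∃ (F : Type) (_ : Field F) (_ : Fintype F) (n : ℕ), 2 ≤ n ∧ Fintype.card F = 2 ^ n ∧
      (Nonempty (H ≃* Matrix.ProjectiveSpecialLinearGroup (Fin 2) F) ∨
        Nonempty (H ≃* Matrix.ProjectiveSpecialLinearGroup (Fin 3) F) ∨
        Nonempty (H ≃* Cfsg.PSp 2 F))) ∨
    Cfsg.Lie.IsoSuzuki H ∨
    (∃ (F : Type) (_ : Field F) (_ : Fintype F) (n : ℕ), 2 ≤ n ∧ Fintype.card F = (2 ^ n) ^ 2 ∧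
      Nonempty (H ≃* Cfsg.PSU 3 F (2 ^ n))) ∨
    (∃ (F : Type) (_ : Field F) (_ : Fintype F) (n : ℕ), 3 < Fintype.card F ∧
      (Fintype.card F = 2 ^ n + 1 ∨ Fintype.card F + 1 = 2 ^ n) ∧
      Nonempty (H ≃* Matrix.ProjectiveSpecialLinearGroup (Fin 2) F))

/-- Type `α`: the Sylow `2`-subgroups intersect trivially. -/
def TyA (H : Type*) [Group H] : Prop :=
  ∀ S S' : Subgroup H, Syl 2 S ⊤ → Syl 2 S' ⊤ → S ⊓ S' ≠ ⊥ → S = S'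

/-- Type `β`: like `L₃(q)` or `Sp₄(q)`, `q ≥ 4`. -/
def TyB (H : Type*) [Group H] : Prop :=
  ∃ (t : H) (S L₁ L₂ V₁ V₂ : Subgroup H) (q : ℕ), Syl 2 S ⊤ ∧ 4 ≤ q ∧ Bd t S L₁ L₂ V₁ V₂ q

/-- Type `γ`: like `L₂(2ⁿ ± 1)`. -/
def TyC (H : Type*) [Group H] : Prop :=
  CIT.IsCIT H ∧ (∀ a b : H, orderOf a = 2 → orderOf b = 2 → IsConj a b) ∧
    ∃ (S : Subgroup H) (n : ℕ), Syl 2 S ⊤ ∧ 4 ≤ n ∧ Nonempty (S ≃* DihedralGroup n)

/-- The conclusion for a simple group. -/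
structure Concl (H : Type*) [Group H] : Prop where
  list : InList H
  one : ∀ a b : H, Gd a → Gd b → IsConj a b
  ty : TyA H ∨ TyB H ∨ TyC H

/-- The theorem for almost simple groups of order less than `n`. -/
def IH (n : ℕ) : Prop :=
  ∀ (H : Type u) [Group H] [Finite H] (L : Subgroup H) (t : H), Nat.card H < n → St L t →
    L = ⊤ ∧ Concl H

end Cfsg.Agent.Bau
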